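import Mathlib
import Cfsg.Agent.S3805
import Cfsg.Agent.S3341
import Cfsg.Agent.S4231
import Cfsg.Agent.MinNormal.Factors
import Cfsg.Agent.CoprimeAction.Hyperplane

/-!
Reduction of the three-local recognition of `Sym(6)` to the non-simplicity statement for a dihedral automizer.
-/

set_option autoImplicit false

namespace CfsgLib.RecogSixSym

open Equiv Equiv.Perm

universe u

abbrev D8 : Type := DihedralGroup 4

/-! ### Facts on the dihedral group of order eight -/

theorem d8_cube : ∀ a : D8, a * a * a = 1 → a = 1 := by decide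

theorem d8_flip : ∀ a : D8, a * a = 1 → (∀ b : D8, b * a = a * b) ∨ a * (DihedralGroup.r 1 * a * (DihedralGroup.r 1)⁻¹) = DihedralGroup.r 2 := by
  decide

theorem d8_gen : ∀ a u g : D8, a * a = 1 → ¬ (∀ b : D8, b * a = a * b) → u * u ≠ 1 →
    ∃ i : Fin 4, ∃ j : Fin 2, u ^ (i : ℕ) * a ^ (j : ℕ) = g := by
  decide

theorem d8_four : ∀ a u : D8, a * a = 1 → ¬ (∀ b : D8, b * a = a * b) → u * u = 1 → (u * a) * (u * a) = 1 →
    u ∈ ({1, a, DihedralGroup.r 2, a * DihedralGroup.r 2} : Finset D8) := by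
  decide

theorem d8_four_card : ∀ a : D8, a * a = 1 → ¬ (∀ b : D8, b * a = a * b) →
    ({1, a, DihedralGroup.r 2, a * DihedralGroup.r 2} : Finset D8).card = 4 := by
  decide

theorem d8_subgroup (U : Subgroup D8) (hU : U.Normal) (a : D8) (haU : a ∈ U) (ha : a * a = 1)
    (hnc : ¬ ∀ b : D8, b * a = a * b) : U = ⊤ ∨ (Nat.card U = 4 ∧ ∀ u ∈ U, u * u = 1) := by
  by_cases h : ∃ u ∈ U, u * u ≠ 1
  · left
    obtain ⟨u, hu, huu⟩ := h
    rw [eq_top_iff]
    intro g _
    obtain ⟨i, j, hij⟩ := d8_gen a u g ha hnc huu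
    rw [← hij]
    exact U.mul_mem (U.pow_mem hu _) (U.pow_mem haU _)
  · right
    push Not at h
    refine ⟨?_, h⟩
    have hz : DihedralGroup.r 2 ∈ U := by
      rcases d8_flip a ha with h' | h'
      · exact absurd h' hnc
      · rw [← h']
        exact U.mul_mem haU (hU.conj_mem a haU _)
    have hset : (U : Set D8) = (({1, a, DihedralGroup.r 2, a * DihedralGroup.r 2} : Finset D8) : Set D8) := by
      ext u
      constructor
      · intro hu
        exact d8_four a u ha hnc (h u hu) (h _ (U.mul_mem hu haU))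
      · intro hu
        simp only [Finset.coe_insert, Finset.coe_singleton, Set.mem_insert_iff, Set.mem_singleton_iff] at hu
        rcases hu with rfl | rfl | rfl | rfl
        · exact U.one_mem
        · exact haU
        · exact hz
        · exact U.mul_mem haU hz
    rw [← SetLike.coe_sort_coe, Nat.card_coe_set_eq, hset, Set.ncard_coe_finset, d8_four_card a ha hnc]

theorem d8_card_le (U : Subgroup D8) (hU : U ≠ ⊤) :
    Nat.card U = 1 ∨ Nat.card U = 2 ∨ Nat.card U = 4 := by
  have h8 : Nat.card D8 = 8 := DihedralGroup.nat_card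
  have hd := Subgroup.card_subgroup_dvd_card U
  rw [h8] at hd
  have hne : Nat.card U ≠ 8 := fun e => hU (Subgroup.eq_top_of_card_eq U (by rw [e, h8]))
  have hle : Nat.card U ≤ 8 := Nat.le_of_dvd (by norm_num) hd
  interval_cases (Nat.card U) <;> omega

/-! ### The action of the normalizer on an elementary group of order nine -/

section Local

variable {G : Type u} [Group G] [Finite G] (S : Subgroup G)
  (π : ↥(Subgroup.normalizer (S : Set G)) →* D8)
  (hπs : Function.Surjective π) (hπk : ∀ n : ↥(Subgroup.normalizer (S : Set G)), π n = 1 ↔ (n : G) ∈ S)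
  (hC : Subgroup.centralizer (S : Set G) = S) (hcard : Nat.card S = 9)
  (hab : ∀ a ∈ S, ∀ b ∈ S, a * b = b * a)

include hπs hπk hC hcard hab

theorem exponent_three : ∀ a ∈ S, a ^ 3 = 1 := by
  intro a ha
  by_contra h3
  have ho : orderOf a = 9 := by
    have hd := S.orderOf_dvd_natCard ha
    rw [hcard] at hd
    have h1 : ¬ orderOf a ∣ 3 := fun h => h3 (orderOf_dvd_iff_pow_eq_one.1 h)
    obtain ⟨k, hk, e⟩ := (Nat.dvd_prime_pow Nat.prime_three).1 (show orderOf a ∣ 3 ^ 2 by norm_num; exact hd)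
    interval_cases k
    · exact absurd (by rw [e]; norm_num) h1
    · exact absurd (by rw [e]; norm_num) h1
    · rw [e]; norm_num
  have hgen : Subgroup.zpowers a = S :=
    Subgroup.eq_of_le_of_card_ge (Subgroup.zpowers_le.2 ha) (by rw [hcard, Nat.card_zpowers, ho])
  have hpow : ∀ n : ↥(Subgroup.normalizer (S : Set G)), ∃ i : ℤ, (n : G) * a * (n : G)⁻¹ = a ^ i := by
    intro n
    have h := (Subgroup.mem_normalizer_iff.1 n.2 a).1 ha
    obtain ⟨i, hi⟩ := Subgroup.mem_zpowers_iff.1 (hgen.ge h)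
    exact ⟨i, hi.symm⟩
  obtain ⟨n, hn⟩ := hπs (DihedralGroup.sr 0)
  obtain ⟨m, hm⟩ := hπs (DihedralGroup.sr 1)
  obtain ⟨i, hi⟩ := hpow n
  obtain ⟨j, hj⟩ := hpow m
  have hcomm : ((n * m * n⁻¹ * m⁻¹ : ↥(Subgroup.normalizer (S : Set G))) : G) ∈ S := by
    have key : ∀ (g h : G) (k l : ℤ), g * a * g⁻¹ = a ^ k → h * a * h⁻¹ = a ^ l →
        (g * h) * a * (g * h)⁻¹ = a ^ (k * l) := by
      intro g h k l hk hl
      calc (g * h) * a * (g * h)⁻¹ = g * (h * a * h⁻¹) * g⁻¹ := by group
        _ = g * a ^ l * g⁻¹ := by rw [hl]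
        _ = (g * a * g⁻¹) ^ l := (conj_zpow).symm
        _ = a ^ (k * l) := by rw [hk, zpow_mul]
    have h1 := key n m i j hi hj
    have h2 := key m n j i hj hi
    rw [mul_comm j i] at h2
    have h3 : ((n : G) * m) * a * ((n : G) * m)⁻¹ = ((m : G) * n) * a * ((m : G) * n)⁻¹ := h1.trans h2.symm
    refine hC.le (Subgroup.mem_centralizer_iff.2 fun z hz => ?_)
    obtain ⟨k, rfl⟩ := Subgroup.mem_zpowers_iff.1 (hgen.ge hz)
    have hc : Commute a ((n * m * n⁻¹ * m⁻¹ : ↥(Subgroup.normalizer (S : Set G))) : G) := by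
      show a * ((n : G) * m * (n : G)⁻¹ * (m : G)⁻¹) = ((n : G) * m * (n : G)⁻¹ * (m : G)⁻¹) * a
      have h5 : (((m : G) * n)⁻¹ * ((n : G) * m)) * a = a * (((m : G) * n)⁻¹ * ((n : G) * m)) := by
        have h6 : ((m : G) * n)⁻¹ * (((n : G) * m) * a * ((n : G) * m)⁻¹) * ((m : G) * n) = a := by
          rw [h3]; group
        calc (((m : G) * n)⁻¹ * ((n : G) * m)) * a
            = (((m : G) * n)⁻¹ * (((n : G) * m) * a * ((n : G) * m)⁻¹) * ((m : G) * n)) *
                (((m : G) * n)⁻¹ * ((n : G) * m)) := by group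
          _ = a * (((m : G) * n)⁻¹ * ((n : G) * m)) := by rw [h6]
      have h7 : ((m : G) * n) * a * ((m : G) * n)⁻¹ = a ^ (i * j) := h2
      have hw : Commute (((m : G) * n)⁻¹ * ((n : G) * m)) a := h5
      have hw' : Commute (((m : G) * n) * (((m : G) * n)⁻¹ * ((n : G) * m)) * ((m : G) * n)⁻¹)
          (((m : G) * n) * a * ((m : G) * n)⁻¹) := hw.map (MulAut.conj ((m : G) * n)).toMonoidHom
      rw [h7] at hw'
      have e : ((m : G) * n) * (((m : G) * n)⁻¹ * ((n : G) * m)) * ((m : G) * n)⁻¹ =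
          (n : G) * m * (n : G)⁻¹ * (m : G)⁻¹ := by group
      rw [e] at hw'
      obtain ⟨q, hq⟩ := Subgroup.mem_zpowers_iff.1
        (show a ∈ Subgroup.zpowers (a ^ (i * j)) by
          rw [← h7]
          have hmem : ((m : G) * n) * a * ((m : G) * n)⁻¹ ∈ S :=
            (Subgroup.mem_normalizer_iff.1 (Subgroup.mul_mem _ m.2 n.2) a).1 ha
          have : Subgroup.zpowers (((m : G) * n) * a * ((m : G) * n)⁻¹) = S :=
            Subgroup.eq_of_le_of_card_ge (Subgroup.zpowers_le.2 hmem) (by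
              rw [hcard, Nat.card_zpowers, ← MulAut.conj_apply, MulEquiv.orderOf_eq, ho])
          rw [this]; exact ha)
      have := hw'.zpow_right q
      rw [hq] at this
      exact this.symm.eq
    exact (hc.zpow_left k).eq
  have := (hπk _).2 hcomm
  rw [map_mul, map_mul, map_mul, map_inv, map_inv, hn, hm] at this
  revert this
  decide

theorem fixers_mul {x : G} (hx : x ∈ S) (hx1 : x ≠ 1) (c d : ↥(Subgroup.normalizer (S : Set G)))
    (hc : (c : G) * x = x * c) (hd : (d : G) * x = x * d) (hcS : (c : G) ∉ S) (hdS : (d : G) ∉ S) :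
    (c : G) * d ∈ S := by
  have hexp := exponent_three S π hπs hπk hC hcard hab
  obtain ⟨y, hy, hyn⟩ : ∃ y ∈ S, y ∉ Subgroup.zpowers x := by
    by_contra h
    push Not at h
    have h1 := Subgroup.card_le_of_le (H := S) (K := Subgroup.zpowers x) h
    rw [hcard, Nat.card_zpowers] at h1
    have := Nat.le_of_dvd (by norm_num) (orderOf_dvd_of_pow_eq_one (hexp x hx))
    omega
  obtain ⟨f, finj, fS, fsurj, fadd, f10, f01, fval⟩ := Cfsg.Agent.S3341.exists_coords S hab hexp hcard x y hx hy hx1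
    (fun e => hyn (e ▸ Subgroup.one_mem _)) (fun e => hyn (e ▸ Subgroup.mem_zpowers x))
    (fun e => hyn (e ▸ Subgroup.inv_mem _ (Subgroup.mem_zpowers x)))
  have key : ∀ n : ↥(Subgroup.normalizer (S : Set G)), (n : G) * x = x * n → (n : G) ∉ S →
      ∃ i : ℕ, (n : G) * y * (n : G)⁻¹ = x ^ i * y ^ 2 := by
    intro n hn hnS
    obtain ⟨⟨i, j⟩, hij⟩ := fsurj _ ((Subgroup.mem_normalizer_iff.1 n.2 y).1 hy)
    rw [fval] at hij
    change x ^ i.val * y ^ j.val = _ at hij
    have hcx : Commute (n : G) x := hn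
    have hj : j = 0 ∨ j = 1 ∨ j = 2 := (by decide : ∀ j : ZMod 3, j = 0 ∨ j = 1 ∨ j = 2) j
    rcases hj with rfl | rfl | rfl
    · exfalso
      apply hyn
      have e : (n : G) * y * (n : G)⁻¹ = x ^ i.val := by
        rw [← hij, show (0 : ZMod 3).val = 0 from rfl, pow_zero, mul_one]
      have e2 : y = x ^ i.val := by
        calc y = (n : G)⁻¹ * ((n : G) * y * (n : G)⁻¹) * n := by group
          _ = (n : G)⁻¹ * x ^ i.val * n := by rw [e]
          _ = (n : G)⁻¹ * (n * x ^ i.val) := by rw [mul_assoc, ← (hcx.pow_right _).eq]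
          _ = x ^ i.val := inv_mul_cancel_left _ _
      rw [e2]; exact Subgroup.pow_mem _ (Subgroup.mem_zpowers x) _
    · exfalso
      apply hnS
      have e : (n : G) * y * (n : G)⁻¹ = x ^ i.val * y := by
        rw [← hij, show (1 : ZMod 3).val = 1 from rfl, pow_one]
      have step : ∀ k : ℕ, (n : G) ^ k * y * ((n : G) ^ k)⁻¹ = x ^ (k * i.val) * y := by
        intro k
        induction k with
        | zero => simp
        | succ k ih =>
          calc (n : G) ^ (k + 1) * y * ((n : G) ^ (k + 1))⁻¹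
              = (n : G) ^ k * ((n : G) * y * (n : G)⁻¹) * ((n : G) ^ k)⁻¹ := by rw [pow_succ]; group
            _ = (n : G) ^ k * x ^ i.val * (y * ((n : G) ^ k)⁻¹) := by rw [e]; group
            _ = x ^ i.val * ((n : G) ^ k * y * ((n : G) ^ k)⁻¹) := by
              rw [((hcx.pow_left k).pow_right i.val).eq]; group
            _ = x ^ ((k + 1) * i.val) * y := by rw [ih, ← mul_assoc, ← pow_add]; congr 2; ring
      have h3 : (n : G) ^ 3 * y = y * (n : G) ^ 3 := by
        have := step 3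
        rw [pow_mul, hexp x hx, one_pow, one_mul, mul_inv_eq_iff_eq_mul] at this
        exact this
      have h3S : (n : G) ^ 3 ∈ S := by
        refine hC.le (Subgroup.mem_centralizer_iff.2 fun z hz => ?_)
        obtain ⟨w, rfl⟩ := fsurj z hz
        rw [fval]
        exact ((((hcx.pow_left 3).pow_right w.1.val).mul_right
          ((show Commute ((n : G) ^ 3) y from h3).pow_right w.2.val)).eq).symm
      have h4 : π (n ^ 3) = 1 := (hπk _).2 (by simpa using h3S)
      rw [map_pow] at h4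
      have h5 : π n = 1 := d8_cube _ (by rw [← pow_two, ← pow_succ]; exact h4)
      exact (hπk n).1 h5
    · exact ⟨i.val, by rw [← hij, show (2 : ZMod 3).val = 2 from rfl]⟩
  obtain ⟨k, hk⟩ := key c hc hcS
  obtain ⟨i, hi⟩ := key d hd hdS
  by_contra hcd
  obtain ⟨l, hl⟩ := key (c * d) (by
    show (c : G) * d * x = x * ((c : G) * d)
    rw [mul_assoc, hd, ← mul_assoc, hc, mul_assoc]) hcd
  have hxc : Commute (c : G) x := hc
  have hxy : Commute x y := hab x hx y hy
  have h1 : ((c : G) * d) * y * ((c : G) * d)⁻¹ = x ^ (i + 2 * k) * y := by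
    calc ((c : G) * d) * y * ((c : G) * d)⁻¹ = (c : G) * ((d : G) * y * (d : G)⁻¹) * (c : G)⁻¹ := by group
      _ = ((c : G) * x ^ i * (c : G)⁻¹) * (((c : G) * y * (c : G)⁻¹) * ((c : G) * y * (c : G)⁻¹)) := by
        rw [hi, pow_two]; group
      _ = x ^ i * ((x ^ k * y ^ 2) * (x ^ k * y ^ 2)) := by
        rw [hk, (hxc.pow_right i).eq, mul_inv_cancel_right]
      _ = x ^ i * (x ^ k * x ^ k * (y ^ 2 * y ^ 2)) := by
        rw [Commute.mul_mul_mul_comm ((hxy.pow_pow k 2).symm)]
      _ = x ^ (i + 2 * k) * y := by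
        rw [← pow_add, ← pow_add, ← mul_assoc, ← pow_add, show k + k = 2 * k by ring,
          show (2 + 2 : ℕ) = 3 + 1 by norm_num, pow_succ y, hexp y hy, one_mul]
  have h2 : ((c : G) * d) * y * ((c : G) * d)⁻¹ = x ^ l * y ^ 2 := hl
  rw [h1, pow_two, ← mul_assoc] at h2
  have h3 : x ^ (i + 2 * k) = x ^ l * y := mul_right_cancel h2
  apply hyn
  rw [show y = (x ^ l)⁻¹ * x ^ (i + 2 * k) by rw [h3, inv_mul_cancel_left]]
  exact Subgroup.mul_mem _ (Subgroup.inv_mem _ (Subgroup.pow_mem _ (Subgroup.mem_zpowers x) _))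
    (Subgroup.pow_mem _ (Subgroup.mem_zpowers x) _)

theorem sq_mem_of_fix {x : G} (hx : x ∈ S) (hx1 : x ≠ 1) (c : ↥(Subgroup.normalizer (S : Set G)))
    (hc : (c : G) * x = x * c) (hcS : (c : G) ∉ S) : π c * π c = 1 ∧ π c ≠ 1 := by
  refine ⟨?_, fun h => hcS ((hπk c).1 h)⟩
  rw [← map_mul]
  exact (hπk _).2 (fixers_mul S π hπs hπk hC hcard hab hx hx1 c c hc hc hcS hcS)

/-- No subgroup of order three of `S` is normalised by the whole normalizer. -/
theorem no_invariant {x : G} (hx : x ∈ S) (hx1 : x ≠ 1)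
    (hinv : ∀ n : ↥(Subgroup.normalizer (S : Set G)), (n : G) * x * (n : G)⁻¹ ∈ Subgroup.zpowers x) : False := by
  have hexp := exponent_three S π hπs hπk hC hcard hab
  have hsign : ∀ n : ↥(Subgroup.normalizer (S : Set G)),
      (n : G) * x * (n : G)⁻¹ = x ∨ (n : G) * x * (n : G)⁻¹ = x⁻¹ := by
    intro n
    obtain ⟨i, hi⟩ := Subgroup.mem_zpowers_iff.1 (hinv n)
    rw [← hi]
    have h0 : x ^ (3 : ℤ) = 1 := by exact_mod_cast hexp x hx
    have e : x ^ i = x ^ (i % 3) := by
      conv_lhs => rw [← Int.emod_add_mul_ediv i 3, zpow_add, zpow_mul, h0, one_zpow, mul_one]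
    have : i % 3 = 0 ∨ i % 3 = 1 ∨ i % 3 = 2 := by omega
    rcases this with h | h | h
    · exfalso
      rw [e, h, zpow_zero, eq_comm, mul_inv_eq_one] at hi
      exact hx1 (mul_left_cancel (hi.trans (mul_one _).symm))
    · left; rw [e, h, zpow_one]
    · right
      rw [e, h, eq_inv_iff_mul_eq_one, ← zpow_add_one, show (2 : ℤ) + 1 = 3 by norm_num, h0]
  have hfix : ∀ n : ↥(Subgroup.normalizer (S : Set G)),
      ((n * n : ↥(Subgroup.normalizer (S : Set G))) : G) * x = x * ((n * n : ↥(Subgroup.normalizer (S : Set G))) : G) := by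
    intro n
    show (n : G) * n * x = x * ((n : G) * n)
    have h2 : (n : G) * ((n : G) * x * (n : G)⁻¹) * (n : G)⁻¹ = x := by
      rcases hsign n with h | h
      · rw [h, h]
      · rw [h, ← conj_inv, h, inv_inv]
    rw [← mul_inv_eq_iff_eq_mul]
    calc (n : G) * n * x * ((n : G) * n)⁻¹ = (n : G) * ((n : G) * x * (n : G)⁻¹) * (n : G)⁻¹ := by group
      _ = x := h2
  obtain ⟨n, hn⟩ := hπs (DihedralGroup.r 1)
  obtain ⟨m, hm⟩ := hπs (DihedralGroup.sr 0)
  obtain ⟨m', hm'⟩ := hπs (DihedralGroup.sr 1)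
  have hne : ∀ k : ↥(Subgroup.normalizer (S : Set G)), π k ≠ 1 → (k : G) ∉ S := fun k hk h => hk ((hπk k).2 h)
  -- the square of a rotation fixes `x`; so does a product of two fixers among `n, m, n * m`
  have hn2 := hfix n
  have hr2 : π (n * n) = DihedralGroup.r 2 := by rw [map_mul, hn]; decide
  have hcases : ∃ k : ↥(Subgroup.normalizer (S : Set G)), (k : G) * x = x * k ∧ π k ≠ 1 ∧ π k ≠ DihedralGroup.r 2 := by
    rcases hsign n with h | h
    · exact ⟨n, mul_inv_eq_iff_eq_mul.1 h, by rw [hn]; decide, by rw [hn]; decide⟩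
    rcases hsign m with h' | h'
    · exact ⟨m, mul_inv_eq_iff_eq_mul.1 h', by rw [hm]; decide, by rw [hm]; decide⟩
    refine ⟨n * m, ?_, by rw [map_mul, hn, hm]; decide, by rw [map_mul, hn, hm]; decide⟩
    show (n : G) * m * x = x * ((n : G) * m)
    rw [← mul_inv_eq_iff_eq_mul]
    calc (n : G) * m * x * ((n : G) * m)⁻¹ = (n : G) * ((m : G) * x * (m : G)⁻¹) * (n : G)⁻¹ := by group
      _ = x := by rw [h', ← conj_inv, h, inv_inv]
  obtain ⟨k, hk, hk1, hk2⟩ := hcases
  have h1 := (hπk _).2 (show ((k * (n * n) : ↥(Subgroup.normalizer (S : Set G))) : G) ∈ S from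
    fixers_mul S π hπs hπk hC hcard hab hx hx1 k (n * n) hk hn2 (hne _ hk1) (hne _ (by rw [hr2]; decide)))
  rw [map_mul, hr2] at h1
  revert h1 hk1 hk2
  generalize π k = q
  revert q
  decide

/-- An element outside `S` which centralises a nonidentity element of `S` is a non-central involution
modulo `S`. -/
theorem fixer_noncentral {x : G} (hx : x ∈ S) (hx1 : x ≠ 1) (c : ↥(Subgroup.normalizer (S : Set G)))
    (hc : (c : G) * x = x * c) (hcS : (c : G) ∉ S) : ¬ ∀ b : D8, b * π c = π c * b := by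
  intro hcen
  have hexp := exponent_three S π hπs hπk hC hcard hab
  -- the fixed points of `c` form an invariant subgroup
  set F := S ⊓ Subgroup.centralizer ({(c : G)} : Set G) with hF
  have hxF : x ∈ F := ⟨hx, Subgroup.mem_centralizer_singleton_iff.2 hc.symm⟩
  have hFx : F = Subgroup.zpowers x := by
    have hox : orderOf x = 3 := orderOf_eq_prime (hexp x hx) hx1
    refine (Subgroup.eq_of_le_of_card_ge (Subgroup.zpowers_le.2 hxF) ?_).symm
    rw [Nat.card_zpowers, hox]
    have hd : Nat.card F ∣ 3 ^ 2 := by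
      have := Subgroup.card_dvd_of_le (H := F) (K := S) inf_le_left
      rw [hcard] at this; norm_num; exact this
    obtain ⟨e, he, hFe⟩ := (Nat.dvd_prime_pow Nat.prime_three).1 hd
    by_contra hlt
    have hFS : F = S := Subgroup.eq_of_le_of_card_ge inf_le_left (by
      rw [hcard, hFe]
      interval_cases e <;> omega)
    apply hcS
    refine hC.le (Subgroup.mem_centralizer_iff.2 fun z hz => ?_)
    exact Subgroup.mem_centralizer_singleton_iff.1 (hFS.ge hz).2
  refine no_invariant S π hπs hπk hC hcard hab hx hx1 fun n => ?_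
  rw [← hFx]
  have hw : (n : G) * x * (n : G)⁻¹ ∈ S := (Subgroup.mem_normalizer_iff.1 n.2 x).1 hx
  refine ⟨hw, Subgroup.mem_centralizer_singleton_iff.2 ?_⟩
  have hs : ((n⁻¹ * c * n * c⁻¹ : ↥(Subgroup.normalizer (S : Set G))) : G) ∈ S := by
    refine (hπk _).1 ?_
    rw [map_mul, map_mul, map_mul, map_inv, map_inv, mul_assoc (π n)⁻¹, ← hcen, inv_mul_cancel_left,
      mul_inv_cancel]
  set s := ((n⁻¹ * c * n * c⁻¹ : ↥(Subgroup.normalizer (S : Set G))) : G) with hsdef
  have hsx : s * (c : G) * x = x * (s * (c : G)) := by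
    rw [mul_assoc, hc, ← mul_assoc, hab s hs x hx, mul_assoc]
  have hse : (c : G) = (n : G) * (s * (c : G)) * (n : G)⁻¹ := by
    rw [hsdef]; push_cast; group
  rw [hse]
  calc (n : G) * x * (n : G)⁻¹ * ((n : G) * (s * (c : G)) * (n : G)⁻¹)
      = (n : G) * (x * (s * (c : G))) * (n : G)⁻¹ := by group
    _ = (n : G) * (s * (c : G) * x) * (n : G)⁻¹ := by rw [hsx]
    _ = _ := by group

/-- Among two different involutions modulo `S` one centralises a nonidentity element of `S`. -/
theorem exists_fix (c d : ↥(Subgroup.normalizer (S : Set G))) (hc : π c = DihedralGroup.sr 0)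
    (hd : π d = DihedralGroup.sr 1) :
    ∃ x ∈ S, x ≠ 1 ∧ ((c : G) * x = x * c ∨ (d : G) * x = x * d) := by
  by_contra hcon
  push Not at hcon
  have inv : ∀ n : ↥(Subgroup.normalizer (S : Set G)), π n * π n = 1 →
      (∀ x ∈ S, x ≠ 1 → (n : G) * x ≠ x * n) → ∀ y ∈ S, (n : G) * y * (n : G)⁻¹ = y⁻¹ := by
    intro n hn hfree y hy
    set w := (n : G) * y * (n : G)⁻¹ with hw
    have hwS : w ∈ S := (Subgroup.mem_normalizer_iff.1 n.2 y).1 hy
    have hsq : ((n * n : ↥(Subgroup.normalizer (S : Set G))) : G) ∈ S := (hπk _).1 (by rw [map_mul, hn])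
    have hcm : (n : G) * n * y = y * ((n : G) * n) := hab _ hsq y hy
    have hw2 : (n : G) * w * (n : G)⁻¹ = y := by
      calc (n : G) * w * (n : G)⁻¹ = (n : G) * n * y * ((n : G) * n)⁻¹ := by rw [hw]; group
        _ = y := by rw [hcm, mul_inv_cancel_right]
    by_contra hne
    refine hfree (y * w) (S.mul_mem hy hwS) (fun h => hne (eq_inv_of_mul_eq_one_right h)) ?_
    rw [← mul_inv_eq_iff_eq_mul]
    calc (n : G) * (y * w) * (n : G)⁻¹ = w * ((n : G) * w * (n : G)⁻¹) := by rw [hw]; group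
      _ = y * w := by rw [hw2, hab w hwS y hy]
  have h1 := inv c (by rw [hc]; decide) fun x hx hx1 => (hcon x hx hx1).1
  have h2 := inv d (by rw [hd]; decide) fun x hx hx1 => (hcon x hx hx1).2
  have hmem : ((c * d : ↥(Subgroup.normalizer (S : Set G))) : G) ∈ S := by
    refine hC.le (Subgroup.mem_centralizer_iff.2 fun y hy => ?_)
    show y * ((c : G) * d) = (c : G) * d * y
    rw [eq_comm, ← mul_inv_eq_iff_eq_mul]
    calc (c : G) * d * y * ((c : G) * d)⁻¹ = (c : G) * ((d : G) * y * (d : G)⁻¹) * (c : G)⁻¹ := by group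
      _ = y := by rw [h2 y hy, ← conj_inv, h1 y hy, inv_inv]
  have h3 := (hπk _).2 hmem
  rw [map_mul, hc, hd] at h3
  revert h3
  decide

end Local

/-! ### Automorphisms of `Alt(6)` -/

/-- An automorphism of `Alt(6)` fixing some element of order three is a conjugation in `Sym(6)`. -/
theorem conj_of_fix (β : MulAut ↥(alternatingGroup (Fin 6))) (z : ↥(alternatingGroup (Fin 6)))
    (hz : orderOf z = 3) (hfix : β z = z) : ∃ σ : Perm (Fin 6), MulAut.conjNormal σ = β := by
  classical
  refine CfsgLib.AutAlt.exists_conj (by norm_num) _ fun x hx => ?_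
  have hord : ∀ z : ↥(alternatingGroup (Fin 6)),
      orderOf ((β z : ↥(alternatingGroup (Fin 6))) : Perm (Fin 6)) = orderOf (z : Perm (Fin 6)) := fun z => by
    rw [Subgroup.orderOf_coe, MulEquiv.orderOf_eq, Subgroup.orderOf_coe]
  have hconj : ∀ (y w : ↥(alternatingGroup (Fin 6))), IsConj y w →
      ((β y : ↥(alternatingGroup (Fin 6))) : Perm (Fin 6)).cycleType =
        ((β w : ↥(alternatingGroup (Fin 6))) : Perm (Fin 6)).cycleType := by
    intro y w h
    obtain ⟨c, hc⟩ := isConj_iff.1 h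
    rw [← hc]
    simp only [map_mul, map_inv, Subgroup.coe_mul, Subgroup.coe_inv, cycleType_conj]
  have h5 : 5 ≤ Nat.card (Fin 6) := by rw [Nat.card_fin]; norm_num
  have hall : ∀ y w : ↥(alternatingGroup (Fin 6)), (y : Perm (Fin 6)).IsThreeCycle → (w : Perm (Fin 6)).IsThreeCycle →
      ((β y : ↥(alternatingGroup (Fin 6))) : Perm (Fin 6)).cycleType =
        ((β w : ↥(alternatingGroup (Fin 6))) : Perm (Fin 6)).cycleType := fun y w hy hw =>
    hconj y w (alternatingGroup.isThreeCycle_isConj h5 hy hw)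
  have hdd : ∀ y w : ↥(alternatingGroup (Fin 6)), (y : Perm (Fin 6)).cycleType = Multiset.replicate 2 3 →
      (w : Perm (Fin 6)).cycleType = Multiset.replicate 2 3 →
      ((β y : ↥(alternatingGroup (Fin 6))) : Perm (Fin 6)).cycleType =
        ((β w : ↥(alternatingGroup (Fin 6))) : Perm (Fin 6)).cycleType := by
    intro y w hy hw
    have hto : ∀ v : ↥(alternatingGroup (Fin 6)), (v : Perm (Fin 6)).cycleType = Multiset.replicate 2 3 →
        IsConj (⟨Cfsg.Agent.S4231.g0, Cfsg.Agent.S4231.g0_mem⟩ : ↥(alternatingGroup (Fin 6))) v := fun v hv => by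
      obtain ⟨a, ha, hae⟩ := Cfsg.Agent.S4231.double_conj (v : Perm (Fin 6)) hv
      exact isConj_iff.2 ⟨⟨a, ha⟩, Subtype.ext hae⟩
    exact hconj y w ((hto y hy).symm.trans (hto w hw))
  have hzo : orderOf (z : Perm (Fin 6)) = 3 := by rw [Subgroup.orderOf_coe]; exact hz
  show ((β x : ↥(alternatingGroup (Fin 6))) : Perm (Fin 6)).IsThreeCycle
  by_cases hz3 : (z : Perm (Fin 6)).IsThreeCycle
  · unfold IsThreeCycle at hz3 hx ⊢
    rw [hall x z hx hz3, hfix, hz3]
  · by_contra hbx
    have hzd := Cfsg.Agent.S4231.cycleType_of_order_three _ hzo hz3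
    have hbxd := Cfsg.Agent.S4231.cycleType_of_order_three _ ((hord x).trans hx.orderOf) hbx
    obtain ⟨y, hy⟩ := β.surjective x
    have hyo : orderOf (y : Perm (Fin 6)) = 3 := by rw [← hord y, hy, hx.orderOf]
    by_cases hy3 : (y : Perm (Fin 6)).IsThreeCycle
    · apply hbx
      unfold IsThreeCycle
      rw [← hall y x hy3 hx, hy]
      exact hx
    · have hyd := Cfsg.Agent.S4231.cycleType_of_order_three _ hyo hy3
      apply hz3
      unfold IsThreeCycle
      rw [← congrArg (fun v : ↥(alternatingGroup (Fin 6)) => (v : Perm (Fin 6)).cycleType) hfix]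
      show ((β z : ↥(alternatingGroup (Fin 6))) : Perm (Fin 6)).cycleType = {3}
      rw [hdd z y hzd hyd, hy]
      exact hx

theorem center_trivial : ∀ g : Perm (Fin 6),
    g * (swap 0 1 * swap 1 2) = swap 0 1 * swap 1 2 * g → g * (swap 3 4 * swap 4 5) = swap 3 4 * swap 4 5 * g →
    g * (swap 1 2 * swap 2 3) = swap 1 2 * swap 2 3 * g → g = 1 := by
  decide +kernel

theorem conjNormal_injective :
    Function.Injective (MulAut.conjNormal : Perm (Fin 6) →* MulAut ↥(alternatingGroup (Fin 6))) := by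
  rw [injective_iff_map_eq_one]
  intro g hg
  have h : ∀ p : Perm (Fin 6), p ∈ alternatingGroup (Fin 6) → g * p = p * g := by
    intro p hp
    have := congrArg (fun e : MulAut ↥(alternatingGroup (Fin 6)) =>
      ((e ⟨p, hp⟩ : ↥(alternatingGroup (Fin 6))) : Perm (Fin 6))) hg
    simp only [MulAut.conjNormal_apply, MulAut.one_apply] at this
    exact mul_inv_eq_iff_eq_mul.1 this
  exact center_trivial g (h _ (by rw [mem_alternatingGroup]; decide)) (h _ (by rw [mem_alternatingGroup]; decide))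
    (h _ (by rw [mem_alternatingGroup]; decide))

/-- A group with a normal `Alt(6)` of index two, trivial centralizer and an outside element fixing an element
of order three of it is `Sym(6)`. -/
theorem iso_sym {G : Type u} [Group G] [Finite G] (M : Subgroup G) [M.Normal]
    (e : ↥M ≃* ↥(alternatingGroup (Fin 6))) (hC : Subgroup.centralizer (M : Set G) = ⊥) (hidx : M.index = 2)
    (g : G) (hg : g ∉ M) (x : ↥M) (hx : orderOf x = 3) (hgx : g * (x : G) = (x : G) * g) :
    Nonempty (G ≃* Perm (Fin 6)) := by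
  classical
  let Φ : G →* MulAut ↥(alternatingGroup (Fin 6)) :=
    MonoidHom.mk' (fun h => (e.symm.trans (MulAut.conjNormal h)).trans e) (fun a b => by
      ext v : 1
      simp [map_mul, MulAut.mul_apply])
  have hΦ : ∀ (h : G) (v : ↥(alternatingGroup (Fin 6))), Φ h v = e (MulAut.conjNormal h (e.symm v)) :=
    fun _ _ => rfl
  have hinj : Function.Injective Φ := by
    rw [injective_iff_map_eq_one]
    intro h hh
    rw [← Subgroup.mem_bot, ← hC, Subgroup.mem_centralizer_iff]
    intro m hm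
    have h1 := congrArg (fun b : MulAut ↥(alternatingGroup (Fin 6)) => b (e ⟨m, hm⟩)) hh
    simp only [hΦ, MulEquiv.symm_apply_apply, MulAut.one_apply] at h1
    have h2 := congrArg Subtype.val (e.injective h1)
    rw [MulAut.conjNormal_apply] at h2
    exact (mul_inv_eq_iff_eq_mul.1 h2).symm
  set R := (MulAut.conjNormal : Perm (Fin 6) →* MulAut ↥(alternatingGroup (Fin 6))).range with hR
  have hM : M ≤ R.comap Φ := by
    intro m hm
    refine ⟨((e ⟨m, hm⟩ : ↥(alternatingGroup (Fin 6))) : Perm (Fin 6)), ?_⟩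
    ext v : 1
    rw [hΦ]
    have hcv : MulAut.conjNormal m (e.symm v) = ⟨m, hm⟩ * e.symm v * (⟨m, hm⟩ : ↥M)⁻¹ :=
      Subtype.ext (by rw [MulAut.conjNormal_apply]; rfl)
    rw [hcv, map_mul, map_mul, map_inv, MulEquiv.apply_symm_apply]
    exact Subtype.ext (by rw [MulAut.conjNormal_apply]; rfl)
  have hgR : g ∈ R.comap Φ := by
    obtain ⟨σ, hσ⟩ := conj_of_fix (Φ g) (e x) (by rw [MulEquiv.orderOf_eq]; exact hx) (by
      rw [hΦ, MulEquiv.symm_apply_apply]
      congr 1
      apply Subtype.ext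
      rw [MulAut.conjNormal_apply, mul_inv_eq_iff_eq_mul]
      exact hgx)
    exact ⟨σ, hσ⟩
  have hT : R.comap Φ = ⊤ := by
    have h1 := Subgroup.relIndex_mul_index hM
    rw [hidx] at h1
    rcases (Nat.dvd_prime Nat.prime_two).1 ⟨_, h1.symm⟩ with h2 | h2
    · exact absurd (Subgroup.relIndex_eq_one.1 h2 hgR) hg
    · rw [h2] at h1
      exact Subgroup.index_eq_one.1 (by omega)
  have hle : Φ.range ≤ R := by
    rintro _ ⟨h, rfl⟩
    exact (hT.ge (Subgroup.mem_top h) : h ∈ R.comap Φ)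
  have hA : Nat.card ↥(alternatingGroup (Fin 6)) = 360 := by
    rw [nat_card_alternatingGroup, Nat.card_fin]; rfl
  have hcG : Nat.card G = 720 := by
    rw [Subgroup.card_eq_card_quotient_mul_card_subgroup M, ← Subgroup.index, hidx, Nat.card_congr e.toEquiv, hA]
  have hcR : Nat.card R = 720 := by
    rw [hR, ← Nat.card_congr (MonoidHom.ofInjective conjNormal_injective).toEquiv, Nat.card_perm, Nat.card_fin]
    rfl
  have hreq : Φ.range = R := Subgroup.eq_of_le_of_card_ge hle (by
    rw [hcR, ← Nat.card_congr (MonoidHom.ofInjective hinj).toEquiv, hcG])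
  exact ⟨((MonoidHom.ofInjective hinj).trans (MulEquiv.subgroupCongr hreq)).trans
    (MonoidHom.ofInjective conjNormal_injective).symm⟩

/-! ### The reduction -/

theorem exists_ne_one {G : Type u} [Group G] {H : Subgroup G} (h : H ≠ ⊥) : ∃ x ∈ H, x ≠ 1 := by
  by_contra hc
  push Not at hc
  exact h ((Subgroup.eq_bot_iff_forall _).2 hc)

/-- The recognition of `Sym(6)`, given that a dihedral automizer excludes simplicity. -/
theorem main {G : Type u} [Group G] [Finite G]
    (h16 : ∀ (H : Type u) [Group H] [Finite H] (M : Sylow 3 H), Nat.card ↥(M : Subgroup H) = 9 →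
      (∀ m ∈ (M : Subgroup H), m ^ 3 = 1) →
      Subgroup.centralizer ((M : Subgroup H) : Set H) = (M : Subgroup H) →
      (∀ g ∈ (M : Subgroup H), g ≠ 1 →
        Subgroup.centralizer ({g} : Set H) ≤ Subgroup.normalizer ((M : Subgroup H) : Set H)) →
      (∀ Q : Sylow 2 ↥(Subgroup.normalizer ((M : Subgroup H) : Set H)),
        Nonempty (↥(Q : Subgroup ↥(Subgroup.normalizer ((M : Subgroup H) : Set H))) ≃* DihedralGroup 4)) →
      ¬ IsSimpleGroup H)
    (P : Sylow 3 G) (hcard : Nat.card (P : Subgroup G) = 9)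
    (hC : Subgroup.centralizer ((P : Subgroup G) : Set G) = P)
    (π : ↥(Subgroup.normalizer ((P : Subgroup G) : Set G)) →* D8) (hπs : Function.Surjective π)
    (hπk : ∀ n : ↥(Subgroup.normalizer ((P : Subgroup G) : Set G)), π n = 1 ↔ (n : G) ∈ (P : Subgroup G))
    (hloc : ∀ x ∈ (P : Subgroup G), x ≠ 1 →
      Subgroup.centralizer ({x} : Set G) ≤ Subgroup.normalizer ((P : Subgroup G) : Set G)) :
    (P : Subgroup G).Normal ∨ Nonempty (G ≃* Perm (Fin 6)) := by
  classical
  have hab : ∀ a ∈ (P : Subgroup G), ∀ b ∈ (P : Subgroup G), a * b = b * a := fun a ha b hb =>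
    Subgroup.mem_centralizer_iff.1 (hC.ge hb) a ha
  haveI hScomm : IsMulCommutative (P : Subgroup G) := ⟨⟨fun a b => Subtype.ext (hab a a.2 b b.2)⟩⟩
  have hexp := exponent_three (P : Subgroup G) π hπs hπk hC hcard hab
  have hS1 : (P : Subgroup G) ≠ ⊥ := fun h => by rw [h, Subgroup.card_bot] at hcard; omega
  by_cases hnorm : (P : Subgroup G).Normal
  · exact Or.inl hnorm
  right
  -- elements of order three are conjugate into `(P : Subgroup G)`
  have hconjS : ∀ y : G, orderOf y = 3 → ∃ g : G, g⁻¹ * y * g ∈ (P : Subgroup G) := by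
    intro y hy
    have hp : IsPGroup 3 ↥(Subgroup.zpowers y) :=
      IsPGroup.of_card (n := 1) (by rw [Nat.card_zpowers, hy, pow_one])
    obtain ⟨Q, hQ⟩ := hp.exists_le_sylow
    obtain ⟨g, rfl⟩ := MulAction.exists_smul_eq G P Q
    exact ⟨g, (Cfsg.Agent.S3805.mem_smul_sylow_iff g y P).1 (hQ (Subgroup.mem_zpowers y))⟩
  -- normal subgroups meeting `(P : Subgroup G)` trivially are trivial
  have htriv : ∀ O : Subgroup G, O.Normal → O ⊓ (P : Subgroup G) = ⊥ → O = ⊥ := by
    intro O hO hOS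
    have hcop : (Nat.card (P : Subgroup G)).Coprime (Nat.card O) := by
      rw [hcard]
      refine Nat.Coprime.pow_left 2 (Nat.prime_three.coprime_iff_not_dvd.2 fun h => ?_)
      obtain ⟨y, hy⟩ := exists_prime_orderOf_dvd_card' 3 h
      rw [← Subgroup.orderOf_coe] at hy
      obtain ⟨g, hg⟩ := hconjS (y : G) hy
      have h1 : g⁻¹ * (y : G) * g ∈ O := by simpa using hO.conj_mem _ y.2 g⁻¹
      have h2 : g⁻¹ * (y : G) * g = 1 := Subgroup.mem_bot.1 (hOS ▸ ⟨h1, hg⟩)
      have h3 : (y : G) = 1 := by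
        calc (y : G) = g * (g⁻¹ * (y : G) * g) * g⁻¹ := by group
          _ = 1 := by rw [h2]; group
      rw [h3, orderOf_one] at hy
      omega
    have key : ∀ x ∈ (P : Subgroup G), x ≠ 1 → ∀ m ∈ O, m * x = x * m → m = 1 := by
      intro x hx hx1 m hm hmx
      have hmN : m ∈ (Subgroup.normalizer ((P : Subgroup G) : Set G)) := hloc x hx hx1 (Subgroup.mem_centralizer_singleton_iff.2 hmx)
      have hmS : m ∈ (P : Subgroup G) := hC.le (Subgroup.mem_centralizer_iff.2 fun s hs => by
        have h1 : m * s * m⁻¹ * s⁻¹ ∈ (P : Subgroup G) := (P : Subgroup G).mul_mem ((Subgroup.mem_normalizer_iff.1 hmN s).1 hs) ((P : Subgroup G).inv_mem hs)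
        have h2 : m * s * m⁻¹ * s⁻¹ ∈ O := by
          rw [mul_assoc m s, mul_assoc m]
          exact O.mul_mem hm (hO.conj_mem _ (O.inv_mem hm) s)
        have h3 : m * s * m⁻¹ * s⁻¹ = 1 := Subgroup.mem_bot.1 (hOS ▸ ⟨h2, h1⟩)
        exact (commutatorElement_eq_one_iff_mul_comm.1 (by rw [commutatorElement_def]; exact h3)).symm)
      exact Subgroup.mem_bot.1 (hOS ▸ ⟨hm, hmS⟩)
    refine le_bot_iff.1 (CfsgLib.CoprimeAction.le_of_hyperplane_centralizers_le (p := 3) hS1 hexp ?_ hcop ?_)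
    · rw [Subgroup.normalizer_eq_top_iff.2 hO]; exact le_top
    · intro B hB hidx
      intro m hm
      rw [Subgroup.mem_bot]
      obtain ⟨b, hb, hb1⟩ : ∃ b ∈ B, b ≠ 1 := by
        by_contra h
        push Not at h
        have hBb : B = ⊥ := (Subgroup.eq_bot_iff_forall _).2 h
        rw [hBb, Subgroup.relIndex_bot_left, hcard] at hidx
        omega
      exact key b (hB hb) hb1 m hm.1 (Subgroup.mem_centralizer_iff.1 hm.2 b hb).symm
  -- a minimal normal subgroup
  obtain ⟨M, ⟨hMn, hM0⟩, hMmin'⟩ := WellFounded.has_min (wellFounded_lt (α := Subgroup G))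
    {K : Subgroup G | K.Normal ∧ K ≠ ⊥}
    ⟨⊤, inferInstance, fun h => hS1 (le_bot_iff.1 (h ▸ le_top))⟩
  haveI := hMn
  have hMmin : ∀ K : Subgroup G, K.Normal → K ≤ M → K = ⊥ ∨ K = M := by
    intro K hK hle
    by_cases h : K = ⊥
    · exact Or.inl h
    · exact Or.inr (eq_of_le_of_not_lt hle (hMmin' K ⟨hK, h⟩))
  have hSM : (P : Subgroup G) ≤ M := by
    have hne : M ⊓ (P : Subgroup G) ≠ ⊥ := fun h => hM0 (htriv M hMn h)
    obtain ⟨x, hx, hx1⟩ := exists_ne_one hne
    by_contra hle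
    refine no_invariant (P : Subgroup G) π hπs hπk hC hcard hab hx.2 hx1 fun n => ?_
    have hcM : Nat.card ↥(M ⊓ (P : Subgroup G)) ≤ 3 := by
      have hd : Nat.card ↥(M ⊓ (P : Subgroup G)) ∣ 3 ^ 2 := by
        have := Subgroup.card_dvd_of_le (H := M ⊓ (P : Subgroup G)) (K := (P : Subgroup G)) inf_le_right
        rw [hcard] at this; norm_num; exact this
      obtain ⟨k, hk, hk'⟩ := (Nat.dvd_prime_pow Nat.prime_three).1 hd
      interval_cases k
      · rw [hk']; norm_num
      · rw [hk']; norm_num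
      · exact absurd ((Subgroup.eq_of_le_of_card_ge (inf_le_right : M ⊓ (P : Subgroup G) ≤ (P : Subgroup G))
          (by rw [hk', hcard]; norm_num)).ge.trans inf_le_left) hle
    have hz : Subgroup.zpowers x = M ⊓ (P : Subgroup G) := Subgroup.eq_of_le_of_card_ge (Subgroup.zpowers_le.2 hx) (by
      rw [Nat.card_zpowers, orderOf_eq_prime (hexp x hx.2) hx1]; exact hcM)
    rw [hz]
    exact ⟨hMn.conj_mem x hx.1 n, (Subgroup.mem_normalizer_iff.1 n.2 x).1 hx.2⟩
  -- it is simple and non-abelian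
  have hMna : ¬ (∀ a ∈ M, ∀ b ∈ M, a * b = b * a) := by
    intro h
    apply hnorm
    have : M = (P : Subgroup G) := le_antisymm (fun m hm => hC.le (Subgroup.mem_centralizer_iff.2 fun s hs =>
      h s (hSM hs) m hm)) hSM
    exact this ▸ hMn
  haveI hMs : IsSimpleGroup ↥M := by
    obtain ⟨m, K, hm, hKle, hKn, hKs, hKc, hKcomm, hind, hsup⟩ := CfsgLib.MinNormal.exists_factors M hM0 hMmin
    by_cases h1 : m = 1
    · subst h1
      have hK : K 0 = M := by
        rw [← hsup]
        exact le_antisymm (le_iSup K 0) (iSup_le fun i => by rw [Fin.fin_one_eq_zero i])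
      rw [← hK]; exact hKs 0
    exfalso
    obtain ⟨T, hTg, k, hT, hk, ⟨φ⟩⟩ := CfsgLib.MinNormal.exists_mulEquiv_pi M hM0 hMmin
    -- some factor has an element of order three
    have hcardK : ∀ i j, Nat.card (K i) = Nat.card (K j) := fun i j => by
      obtain ⟨h, hh⟩ := hKc i j
      rw [← hh, Subgroup.card_map_of_injective (MulAut.conj h).injective]
    have h3 : ∀ i, 3 ∣ Nat.card (K i) := by
      intro i
      by_contra hn3
      have hpi : Nat.card ↥M = ∏ j, Nat.card (K j) := by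
        rw [← Nat.card_pi]
        exact (Nat.card_congr ((MonoidHom.ofInjective
          (Subgroup.injective_noncommPiCoprod_of_iSupIndep (hcomm := hKcomm) hind)).trans
          (MulEquiv.subgroupCongr (Subgroup.noncommPiCoprod_range.trans hsup))).toEquiv).symm
      have hd : 3 ∣ Nat.card ↥M := (show 3 ∣ Nat.card (P : Subgroup G) by rw [hcard]; norm_num).trans (Subgroup.card_dvd_of_le hSM)
      rw [hpi] at hd
      obtain ⟨j, -, hj⟩ := (Nat.prime_three.prime.dvd_finset_prod_iff _).1 hd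
      exact hn3 (hcardK j i ▸ hj)
    obtain ⟨y, hy⟩ := exists_prime_orderOf_dvd_card' 3 (h3 ⟨0, hm⟩)
    rw [← Subgroup.orderOf_coe] at hy
    obtain ⟨g, hg⟩ := hconjS (y : G) hy
    set j : Fin m := ⟨1, by omega⟩ with hj
    have hij : (⟨0, hm⟩ : Fin m) ≠ j := by simp [hj, Fin.ext_iff]
    have hy1 : g⁻¹ * (y : G) * g ≠ 1 := by
      intro h
      have h3' : (y : G) = 1 := by
        calc (y : G) = g * (g⁻¹ * (y : G) * g) * g⁻¹ := by group
          _ = 1 := by rw [h]; group
      rw [h3', orderOf_one] at hy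
      omega
    set Q := (P : Subgroup G).map (MulAut.conj g).toMonoidHom with hQ
    have hmemQ : ∀ z, z ∈ Q ↔ g⁻¹ * z * g ∈ (P : Subgroup G) := fun z => by
      rw [hQ]
      constructor
      · rintro ⟨s, hs, rfl⟩
        show g⁻¹ * (g * s * g⁻¹) * g ∈ (P : Subgroup G)
        rw [show g⁻¹ * (g * s * g⁻¹) * g = s by group]; exact hs
      · intro hz; exact ⟨_, hz, by simp [mul_assoc]⟩
    have hQM : Q ≤ M := fun z hz => by
      have := hMn.conj_mem _ (hSM ((hmemQ z).1 hz)) g
      simpa [mul_assoc] using this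
    have hKQ : ∀ k ∈ K j, ∀ z ∈ Q, k * z * k⁻¹ ∈ Q := by
      intro k hk z hz
      rw [hmemQ]
      have hcy : Commute (y : G) k := hKcomm hij _ _ y.2 hk
      have hN' : g⁻¹ * k * g ∈ (Subgroup.normalizer ((P : Subgroup G) : Set G)) := hloc _ hg hy1 (Subgroup.mem_centralizer_singleton_iff.2 (by
        calc g⁻¹ * k * g * (g⁻¹ * (y : G) * g) = g⁻¹ * (k * (y : G)) * g := by group
          _ = g⁻¹ * ((y : G) * k) * g := by rw [hcy.eq]
          _ = g⁻¹ * (y : G) * g * (g⁻¹ * k * g) := by group))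
      have := (Subgroup.mem_normalizer_iff.1 hN' _).1 ((hmemQ z).1 hz)
      have e : g⁻¹ * k * g * (g⁻¹ * z * g) * (g⁻¹ * k * g)⁻¹ = g⁻¹ * (k * z * k⁻¹) * g := by group
      rwa [e] at this
    haveI := hKs j
    have hQn : ((Q ⊓ K j).subgroupOf (K j)).Normal := by
      constructor
      intro z hz k
      rw [Subgroup.mem_subgroupOf] at hz ⊢
      exact ⟨hKQ k k.2 z hz.1, (K j).mul_mem ((K j).mul_mem k.2 z.2) ((K j).inv_mem k.2)⟩
    have habel : ∀ a ∈ K j, ∀ b ∈ K j, a * b = b * a := by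
      rcases hQn.eq_bot_or_eq_top with h | h
      · have hQK : Q ⊓ K j = ⊥ := by
          rw [Subgroup.eq_bot_iff_forall]
          intro z hz
          have : (⟨z, hz.2⟩ : K j) ∈ (Q ⊓ K j).subgroupOf (K j) := hz
          rw [h, Subgroup.mem_bot] at this
          exact congrArg Subtype.val this
        -- then `K j` centralises `Q`, so lies in it
        intro a ha b hb
        have hle : ∀ k ∈ K j, g⁻¹ * k * g ∈ (P : Subgroup G) := by
          intro k hk
          refine hC.le (Subgroup.mem_centralizer_iff.2 fun s hs => ?_)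
          have hz : g * s * g⁻¹ ∈ Q := (hmemQ _).2 (by rw [show g⁻¹ * (g * s * g⁻¹) * g = s by group]; exact hs)
          have h1 : k * (g * s * g⁻¹) * k⁻¹ * (g * s * g⁻¹)⁻¹ ∈ Q := Q.mul_mem (hKQ k hk _ hz) (Q.inv_mem hz)
          have h2 : k * (g * s * g⁻¹) * k⁻¹ * (g * s * g⁻¹)⁻¹ ∈ K j := by
            rw [mul_assoc k, mul_assoc k]
            exact (K j).mul_mem hk ((Subgroup.mem_normalizer_iff.1 (hKn j (hQM hz)) k⁻¹).1 ((K j).inv_mem hk))
          have h3 : k * (g * s * g⁻¹) * k⁻¹ * (g * s * g⁻¹)⁻¹ = 1 := Subgroup.mem_bot.1 (hQK ▸ ⟨h1, h2⟩)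
          have h4 : k * (g * s * g⁻¹) = g * s * g⁻¹ * k := mul_inv_eq_iff_eq_mul.1 (mul_inv_eq_one.1 h3)
          calc s * (g⁻¹ * k * g) = g⁻¹ * (g * s * g⁻¹ * k) * g := by group
            _ = g⁻¹ * (k * (g * s * g⁻¹)) * g := by rw [h4]
            _ = g⁻¹ * k * g * s := by group
        have := hab _ (hle a ha) _ (hle b hb)
        calc a * b = g * ((g⁻¹ * a * g) * (g⁻¹ * b * g)) * g⁻¹ := by group
          _ = g * ((g⁻¹ * b * g) * (g⁻¹ * a * g)) * g⁻¹ := by rw [this]
          _ = b * a := by group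
      · intro a ha b hb
        have ha' : (⟨a, ha⟩ : K j) ∈ (Q ⊓ K j).subgroupOf (K j) := h ▸ Subgroup.mem_top _
        have hb' : (⟨b, hb⟩ : K j) ∈ (Q ⊓ K j).subgroupOf (K j) := h ▸ Subgroup.mem_top _
        have ha2 := (hmemQ a).1 (Subgroup.mem_subgroupOf.1 ha').1
        have hb2 := (hmemQ b).1 (Subgroup.mem_subgroupOf.1 hb').1
        calc a * b = g * ((g⁻¹ * a * g) * (g⁻¹ * b * g)) * g⁻¹ := by group
          _ = g * ((g⁻¹ * b * g) * (g⁻¹ * a * g)) * g⁻¹ := by rw [hab _ ha2 _ hb2]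
          _ = b * a := by group
    apply hMna
    have hall : ∀ i, ∀ a ∈ K i, ∀ b ∈ K i, a * b = b * a := by
      intro i a ha b hb
      obtain ⟨h, hh⟩ := hKc j i
      rw [← hh] at ha hb
      obtain ⟨a', ha', rfl⟩ := ha
      obtain ⟨b', hb', rfl⟩ := hb
      rw [← map_mul, ← map_mul, habel a' ha' b' hb']
    have hle : M ≤ Subgroup.centralizer (M : Set G) := by
      conv_lhs => rw [← hsup]
      refine iSup_le fun i => ?_
      rw [Subgroup.le_centralizer_iff]
      rw [← hsup]
      refine iSup_le fun l => ?_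
      intro b hb
      rw [Subgroup.mem_centralizer_iff]
      intro a ha
      by_cases hil : i = l
      · subst hil; exact hall i a ha b hb
      · exact (hKcomm hil a b ha hb).eq
    intro a ha b hb
    exact Subgroup.mem_centralizer_iff.1 (hle hb) a ha
  -- the trace on `M`
  set SM : Sylow 3 ↥M := P.subtype hSM with hSMdef
  have hSMc : (SM : Subgroup ↥M) = (P : Subgroup G).subgroupOf M := Sylow.coe_subtype P hSM
  set NM := Subgroup.normalizer ((SM : Subgroup ↥M) : Set ↥M) with hNM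
  have hmemNM : ∀ m : ↥M, m ∈ NM ↔ (m : G) ∈ (Subgroup.normalizer ((P : Subgroup G) : Set G)) := by
    intro m
    rw [hNM, hSMc, Subgroup.mem_normalizer_iff, Subgroup.mem_normalizer_iff]
    constructor
    · intro h z
      constructor
      · intro hz; exact (h ⟨z, hSM hz⟩).1 hz
      · intro hz
        have hzM : z ∈ M := by
          have := hMn.conj_mem _ (hSM hz) (m : G)⁻¹
          simpa [mul_assoc] using this
        exact (h ⟨z, hzM⟩).2 hz
    · intro h z; exact h z
  let ψ : ↥NM →* ↥(Subgroup.normalizer ((P : Subgroup G) : Set G)) := MonoidHom.mk' (fun k => ⟨((k : ↥M) : G), (hmemNM k).1 k.2⟩) (fun _ _ => rfl)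
  let f : ↥NM →* D8 := π.comp ψ
  have hfk : ∀ k : ↥NM, f k = 1 ↔ ((k : ↥M) : G) ∈ (P : Subgroup G) := fun k => hπk _
  have hker : f.ker = (SM : Subgroup ↥M).subgroupOf NM := by
    ext k
    rw [MonoidHom.mem_ker, hfk, hSMc, Subgroup.mem_subgroupOf, Subgroup.mem_subgroupOf]
  set U := f.range with hUdef
  have hUn : U.Normal := by
    constructor
    rintro u ⟨k, rfl⟩ b
    obtain ⟨n, rfl⟩ := hπs b
    have hin : (n : G) * ((k : ↥M) : G) * (n : G)⁻¹ ∈ (Subgroup.normalizer ((P : Subgroup G) : Set G)) :=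
      Subgroup.mul_mem _ (Subgroup.mul_mem _ n.2 ((hmemNM k).1 k.2)) (Subgroup.inv_mem _ n.2)
    refine ⟨⟨⟨_, hMn.conj_mem _ (k : ↥M).2 (n : G)⟩, (hmemNM _).2 hin⟩, ?_⟩
    show π _ = π n * π _ * (π n)⁻¹
    rw [← map_inv, ← map_mul, ← map_mul]
    rfl
  have hSMcard : Nat.card (SM : Subgroup ↥M) = 9 := by
    rw [hSMc, Nat.card_congr (Subgroup.subgroupOfEquivOfLe hSM).toEquiv, hcard]
  have hNMcard : Nat.card ↥NM = 9 * Nat.card U := by
    rw [← f.ker.card_mul_index, Subgroup.index_ker, hker,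
      Nat.card_congr (Subgroup.subgroupOfEquivOfLe Subgroup.le_normalizer).toEquiv, hSMcard]
  have hCMS : Subgroup.centralizer ((SM : Subgroup ↥M) : Set ↥M) = (SM : Subgroup ↥M) := by
    ext m
    rw [Subgroup.mem_centralizer_iff]
    constructor
    · intro h
      rw [hSMc, Subgroup.mem_subgroupOf]
      refine hC.le (Subgroup.mem_centralizer_iff.2 fun s hs => ?_)
      exact congrArg Subtype.val (h ⟨s, hSM hs⟩ (by rw [hSMc]; exact hs))
    · intro hm s hs
      rw [hSMc] at hm hs
      exact Subtype.ext (hab _ hs _ hm)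
  have hlocM : ∀ t ∈ (SM : Subgroup ↥M), t ≠ 1 → Subgroup.centralizer ({t} : Set ↥M) ≤ NM := by
    intro t ht ht1 m hm
    rw [hmemNM]
    refine hloc (t : G) (by rw [hSMc] at ht; exact ht) (fun h => ht1 (Subtype.ext h)) ?_
    exact Subgroup.mem_centralizer_singleton_iff.2 (congrArg Subtype.val (Subgroup.mem_centralizer_singleton_iff.1 hm))
  have hexpM : ∀ m ∈ (SM : Subgroup ↥M), m ^ 3 = 1 := fun m hm => by
    rw [hSMc] at hm
    exact Subtype.ext (hexp _ hm)
  -- no fixed points for `U`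
  have hfree : ∀ x ∈ (P : Subgroup G), x ≠ 1 → ∀ c, c ∈ M → c * x = x * c → c ∈ (P : Subgroup G) := by
    intro x hx hx1 c hcM hcx
    by_contra hcS
    have hcN : c ∈ (Subgroup.normalizer ((P : Subgroup G) : Set G)) := hloc x hx hx1 (Subgroup.mem_centralizer_singleton_iff.2 hcx)
    set k : ↥NM := ⟨⟨c, hcM⟩, (hmemNM _).2 hcN⟩ with hk
    have hkU : f k ∈ U := ⟨k, rfl⟩
    have h1 := sq_mem_of_fix (P : Subgroup G) π hπs hπk hC hcard hab hx hx1 ⟨c, hcN⟩ hcx hcS
    have h2 := fixer_noncentral (P : Subgroup G) π hπs hπk hC hcard hab hx hx1 ⟨c, hcN⟩ hcx hcS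
    rcases d8_subgroup U hUn (f k) hkU h1.1 h2 with htop | ⟨hU4, hUsq⟩
    · -- dihedral automizer
      refine h16 ↥M SM hSMcard hexpM hCMS hlocM (fun Q => ?_) hMs
      have hN72 : Nat.card ↥NM = 72 := by
        rw [hNMcard, htop, Subgroup.card_top, DihedralGroup.nat_card]
      have hQ8 : Nat.card (Q : Subgroup ↥NM) = 8 := by
        rw [Sylow.card_eq_multiplicity, hN72]
        have : (72 : ℕ).factorization 2 = 3 := by
          rw [show (72 : ℕ) = 2 ^ 3 * 9 by norm_num, Nat.factorization_mul (by norm_num) (by norm_num),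
            Finsupp.add_apply, Nat.Prime.factorization_pow Nat.prime_two, Finsupp.single_eq_same,
            Nat.factorization_eq_zero_of_not_dvd (by norm_num : ¬ 2 ∣ 9)]
        rw [this]; norm_num
      have hinj : Function.Injective (f.comp (Q : Subgroup ↥NM).subtype) := by
        rw [injective_iff_map_eq_one]
        intro q hq
        have hqS : (((q : ↥NM) : ↥M) : G) ∈ (P : Subgroup G) := (hfk _).1 hq
        have hd1 : orderOf q ∣ 8 := hQ8 ▸ orderOf_dvd_natCard q
        have hd2 : orderOf q ∣ 3 := by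
          refine orderOf_dvd_of_pow_eq_one ?_
          apply Subtype.ext; apply Subtype.ext; apply Subtype.ext
          exact hexp _ hqS
        have := Nat.dvd_gcd hd1 hd2
        norm_num at this
        exact this
      exact ⟨MulEquiv.ofBijective _ ((Nat.bijective_iff_injective_and_card _).2
        ⟨hinj, by rw [hQ8, DihedralGroup.nat_card]⟩)⟩
    · -- four-group automizer
      haveI : Nontrivial U := Finite.one_lt_card_iff_nontrivial.1 (by rw [hU4]; norm_num)
      have eU : ↥NM ⧸ (SM : Subgroup ↥M).subgroupOf NM ≃* U :=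
        (QuotientGroup.quotientMulEquivOfEq hker.symm).trans (QuotientGroup.quotientKerEquivRange f)
      have hK : IsKleinFour (↥NM ⧸ (SM : Subgroup ↥M).subgroupOf NM) :=
        { card_four := by rw [Nat.card_congr eU.toEquiv, hU4]
          exponent_two := by
            rw [Monoid.exponent_eq_of_mulEquiv eU]
            refine (Monoid.exponent_eq_prime_iff Nat.prime_two).2 fun u hu => ?_
            exact orderOf_eq_prime (Subtype.ext (by rw [pow_two]; exact hUsq u u.2)) hu }
      have hel : Cfsg.IsElementaryAbelian 3 (SM : Subgroup ↥M) :=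
        ⟨⟨⟨fun a b => Subtype.ext (Subtype.ext (hab _ (Subgroup.mem_subgroupOf.1 (hSMc.le a.2)) _
          (Subgroup.mem_subgroupOf.1 (hSMc.le b.2))))⟩⟩, hexpM⟩
      have htop := Cfsg.Agent.S3805.result SM hel hSMcard hCMS hK hlocM
      rcases (Subgroup.normalizer_eq_top_iff.1 htop : (SM : Subgroup ↥M).Normal).eq_bot_or_eq_top with h | h
      · rw [h, Subgroup.card_bot] at hSMcard; omega
      · apply hMna
        intro a ha b hb
        have ha' : (⟨a, ha⟩ : ↥M) ∈ (SM : Subgroup ↥M) := h ▸ Subgroup.mem_top _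
        have hb' : (⟨b, hb⟩ : ↥M) ∈ (SM : Subgroup ↥M) := h ▸ Subgroup.mem_top _
        rw [hSMc] at ha' hb'
        exact hab a ha' b hb'
  have hUtop : U ≠ ⊤ := by
    intro htop
    obtain ⟨c, hc⟩ : DihedralGroup.sr 0 ∈ U := htop ▸ Subgroup.mem_top _
    obtain ⟨d, hd⟩ : DihedralGroup.sr 1 ∈ U := htop ▸ Subgroup.mem_top _
    obtain ⟨x, hx, hx1, h | h⟩ := exists_fix (P : Subgroup G) π hπs hπk hC hcard hab (ψ c) (ψ d) hc hd
    · have := (hfk c).2 (hfree x hx hx1 _ (c : ↥M).2 h)
      rw [hc] at this; revert this; decide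
    · have := (hfk d).2 (hfree x hx hx1 _ (d : ↥M).2 h)
      rw [hd] at this; revert this; decide
  have hUle : Nat.card U ≤ 4 := by rcases d8_card_le U hUtop with h | h | h <;> omega
  have hCs : ∀ t ∈ (SM : Subgroup ↥M), t ≠ 1 → Subgroup.centralizer ({t} : Set ↥M) = (SM : Subgroup ↥M) := by
    intro t ht ht1
    ext m
    rw [Subgroup.mem_centralizer_singleton_iff]
    rw [hSMc] at ht
    constructor
    · intro h
      rw [hSMc]
      exact hfree (t : G) ht (fun h' => ht1 (Subtype.ext h')) m m.2 (congrArg Subtype.val h)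
    · intro hm
      rw [hSMc] at hm
      exact Subtype.ext (hab _ hm _ ht)
  -- two classes of elements of order three
  obtain ⟨a, ha, ha1⟩ := exists_ne_one hS1
  obtain ⟨b, hb, hb1, hnab⟩ : ∃ b ∈ (P : Subgroup G), b ≠ 1 ∧ ∀ m ∈ M, m * a * m⁻¹ ≠ b := by
    by_contra hcon
    push Not at hcon
    have hsub : (((P : Subgroup G) : Set G) \ {1}) ⊆ Set.range (fun u : U =>
        ((u.2.choose : ↥M) : G) * a * ((u.2.choose : ↥M) : G)⁻¹) := by
      rintro b ⟨hb, hb1⟩
      obtain ⟨m, hm, rfl⟩ := hcon b hb hb1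
      have hmN : m ∈ (Subgroup.normalizer ((P : Subgroup G) : Set G)) := by
        rw [Subgroup.mem_normalizer_iff_map_conj_eq]
        refine Subgroup.eq_of_le_of_card_ge ?_ (le_of_eq (Subgroup.card_map_of_injective (MulAut.conj m).injective).symm)
        rintro _ ⟨s, hs, rfl⟩
        refine hfree _ hb hb1 _ (M.mul_mem (M.mul_mem hm (hSM hs)) (M.inv_mem hm)) ?_
        show m * s * m⁻¹ * (m * a * m⁻¹) = m * a * m⁻¹ * (m * s * m⁻¹)
        calc m * s * m⁻¹ * (m * a * m⁻¹) = m * (s * a) * m⁻¹ := by group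
          _ = m * (a * s) * m⁻¹ := by rw [hab s hs a ha]
          _ = _ := by group
      set k : ↥NM := ⟨⟨m, hm⟩, (hmemNM _).2 hmN⟩ with hk
      refine ⟨⟨f k, k, rfl⟩, ?_⟩
      set k' := (show f k ∈ U from ⟨k, rfl⟩).choose with hk'
      have hkk : f k' = f k := (show f k ∈ U from ⟨k, rfl⟩).choose_spec
      have hq : f (k⁻¹ * k') = 1 := by rw [map_mul, map_inv, hkk, inv_mul_cancel]
      have hqS := (hfk _).1 hq
      show ((k' : ↥M) : G) * a * ((k' : ↥M) : G)⁻¹ = m * a * m⁻¹
      have e : ((k' : ↥M) : G) = m * (m⁻¹ * ((k' : ↥M) : G)) := by group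
      have hcm : m⁻¹ * ((k' : ↥M) : G) * a = a * (m⁻¹ * ((k' : ↥M) : G)) := hab _ hqS a ha
      rw [e]
      calc m * (m⁻¹ * ((k' : ↥M) : G)) * a * (m * (m⁻¹ * ((k' : ↥M) : G)))⁻¹
          = m * (m⁻¹ * ((k' : ↥M) : G) * a) * (m⁻¹ * ((k' : ↥M) : G))⁻¹ * m⁻¹ := by group
        _ = m * a * m⁻¹ := by rw [hcm]; group
    have h1 := Set.ncard_le_ncard hsub
    have h2 : Set.ncard (((P : Subgroup G) : Set G) \ {1}) = 8 := by
      rw [Set.ncard_sdiff_singleton_of_mem (P : Subgroup G).one_mem, ← Nat.card_coe_set_eq, SetLike.coe_sort_coe, hcard]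
    have h3 := (Nat.card_coe_set_eq _).symm.trans_le (Finite.card_range_le (fun u : U =>
        ((u.2.choose : ↥M) : G) * a * ((u.2.choose : ↥M) : G)⁻¹))
    omega
  obtain ⟨e⟩ := Cfsg.Agent.S3341.result SM (SM : Subgroup ↥M) rfl
    ⟨⟨fun a b => Subtype.ext (Subtype.ext (hab _ (Subgroup.mem_subgroupOf.1 (hSMc.le a.2)) _
          (Subgroup.mem_subgroupOf.1 (hSMc.le b.2))))⟩⟩ hexpM hSMcard
    ⟨⟨a, hSM ha⟩, ⟨b, hSM hb⟩, by rw [← Subgroup.orderOf_coe]; exact orderOf_eq_prime (hexp a ha) ha1,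
      by rw [← Subgroup.orderOf_coe]; exact orderOf_eq_prime (hexp b hb) hb1,
      fun m h => hnab m m.2 (congrArg Subtype.val h)⟩ hCs
  -- the automizer in `M` has order four
  have hMcard : Nat.card ↥M = 360 := by
    rw [Nat.card_congr e.toEquiv, nat_card_alternatingGroup, Nat.card_fin]; rfl
  have hU4 : Nat.card U = 4 := by
    have hi : Nat.card U * NM.index * 9 = 360 := by
      rw [← hMcard, ← NM.card_mul_index, hNMcard]; ring
    have hn3 := card_sylow_modEq_one 3 ↥M
    rw [Sylow.card_eq_index_normalizer SM, show Subgroup.normalizer (SM : Set ↥M) = NM from rfl] at hn3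
    unfold Nat.ModEq at hn3
    rcases d8_card_le U hUtop with h | h | h
    · exfalso
      refine Cfsg.Agent.S0497.no_complement SM ?_ ?_ ?_
      · intro h0; rw [h0, Subgroup.card_bot] at hSMcard; omega
      · intro h0; rw [h0, Subgroup.card_top, hMcard] at hSMcard; omega
      · rw [hCMS, ← hNM]
        refine le_of_eq (Subgroup.eq_of_le_of_card_ge ?_ ?_).symm
        · exact Subgroup.le_normalizer
        · rw [hNMcard, h, hSMcard]
    · rw [h] at hi; omega
    · exact h
  have hidx : M.index = 2 := by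
    have htop : (Subgroup.normalizer ((P : Subgroup G) : Set G)) ⊔ M = ⊤ := by
      have h := Sylow.normalizer_sup_eq_top SM
      have hmap : (SM : Subgroup ↥M).map M.subtype = (P : Subgroup G) := by
        rw [hSMc, Subgroup.map_subgroupOf_eq_of_le hSM]
      rw [hmap] at h; exact h
    have h1 : M.relIndex (Subgroup.normalizer ((P : Subgroup G) : Set G)) = M.index := by
      rw [← Subgroup.relIndex_top_right, ← htop, Subgroup.relIndex_sup_right]
    have hN72 : Nat.card ↥(Subgroup.normalizer ((P : Subgroup G) : Set G)) = 72 := by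
      rw [← π.ker.card_mul_index, Subgroup.index_ker, MonoidHom.range_eq_top.2 hπs, Subgroup.card_top,
        DihedralGroup.nat_card, show π.ker = (P : Subgroup G).subgroupOf (Subgroup.normalizer ((P : Subgroup G) : Set G)) from Subgroup.ext fun n => by
          rw [MonoidHom.mem_ker, hπk, Subgroup.mem_subgroupOf],
        Nat.card_congr (Subgroup.subgroupOfEquivOfLe Subgroup.le_normalizer).toEquiv, hcard]
    have hMN : Nat.card ↥(M.subgroupOf (Subgroup.normalizer ((P : Subgroup G) : Set G))) = 36 := by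
      have e1 : ↥NM ≃ ↥(M.subgroupOf (Subgroup.normalizer ((P : Subgroup G) : Set G))) :=
        { toFun := fun k => ⟨⟨_, (hmemNM k).1 k.2⟩, (k : ↥M).2⟩
          invFun := fun k => ⟨⟨_, k.2⟩, (hmemNM _).2 (k : ↥(Subgroup.normalizer ((P : Subgroup G) : Set G))).2⟩
          left_inv := fun _ => rfl
          right_inv := fun _ => rfl }
      rw [← Nat.card_congr e1, hNMcard, hU4]
    rw [← h1]
    have := (M.subgroupOf (Subgroup.normalizer ((P : Subgroup G) : Set G))).card_mul_index
    rw [hN72, hMN] at this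
    show (M.subgroupOf (Subgroup.normalizer ((P : Subgroup G) : Set G))).index = 2
    omega
  have hCM : Subgroup.centralizer (M : Set G) = ⊥ := by
    refine htriv _ inferInstance ?_
    rw [Subgroup.eq_bot_iff_forall]
    intro x hx
    by_contra hx1
    have hz : (⟨x, hSM hx.2⟩ : ↥M) ∈ Subgroup.center ↥M := Subgroup.mem_center_iff.2 fun m =>
      Subtype.ext (Subgroup.mem_centralizer_iff.1 hx.1 m m.2)
    rcases (inferInstance : (Subgroup.center ↥M).Normal).eq_bot_or_eq_top with h | h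
    · rw [h, Subgroup.mem_bot] at hz
      exact hx1 (congrArg Subtype.val hz)
    · apply hMna
      intro a ha b hb
      exact congrArg Subtype.val (Subgroup.mem_center_iff.1
        (show (⟨b, hb⟩ : ↥M) ∈ Subgroup.center ↥M from h ▸ Subgroup.mem_top _) ⟨a, ha⟩)
  -- an outside element fixing an element of order three
  obtain ⟨c, hc⟩ := hπs (DihedralGroup.sr 0)
  obtain ⟨d, hd⟩ := hπs (DihedralGroup.sr 1)
  obtain ⟨x, hx, hx1, h | h⟩ := exists_fix (P : Subgroup G) π hπs hπk hC hcard hab c d hc hd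
  · refine iso_sym M e hCM hidx (c : G) (fun hm => ?_) ⟨x, hSM hx⟩
      (by rw [← Subgroup.orderOf_coe]; exact orderOf_eq_prime (hexp x hx) hx1) h
    have := (hπk c).2 (hfree x hx hx1 _ hm h)
    rw [hc] at this; revert this; decide
  · refine iso_sym M e hCM hidx (d : G) (fun hm => ?_) ⟨x, hSM hx⟩
      (by rw [← Subgroup.orderOf_coe]; exact orderOf_eq_prime (hexp x hx) hx1) h
    have := (hπk d).2 (hfree x hx hx1 _ hm h)
    rw [hd] at this; revert this; decide

end CfsgLib.RecogSixSym
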